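import Groth.Agent.EtTensorStalk.Basic
import Groth.Agent.ShriekLQF.Etale
import Groth.Agent.ShriekLQF.Range
import Mathlib

/-!
Projection formula for the direct image with proper support along a separated locally quasi-finite morphism.
-/

set_option autoImplicit false
set_option backward.isDefEq.respectTransparency false
set_option linter.style.haveILetI false

universe u

open CategoryTheory CategoryTheory.Limits AlgebraicGeometry Opposite TensorProduct

namespace Groth.Agent.ShriekProj

open Groth.Agent.ShriekLQF Groth.Agent.EtIntegral Groth.Agent.EtTensorStalk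

variable {X Y : Scheme.{u}} (f : X ⟶ Y) (F : EtCoh.Ab X) (G : EtCoh.Ab Y)

/-- `F ⊗ f⁻¹G` -/
noncomputable abbrev tgt : EtCoh.Ab X := (EtTens.tensorBi.obj F).obj ((EtCoh.pull f).obj G)

/-- the presheaf of tensors on the source -/
noncomputable abbrev tgtPre : X.Etaleᵒᵖ ⥤ AddCommGrpCat.{u + 1} :=
  EtTens.tensorObj F.obj ((EtCoh.pull f).obj G).obj

/-- the section attached to a pair -/
noncomputable def pairSect (V : Y.Etale) (s : EtCoh.sect F ((EtCoh.bc f).obj V)) (g : EtCoh.sect G V) :
    EtCoh.sect (tgt f F G) ((EtCoh.bc f).obj V) :=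
  (toSheafify X.smallEtaleTopology (tgtPre f F G)).app (op ((EtCoh.bc f).obj V))
    (s ⊗ₜ (((EtCoh.pullPushAdj f).unit.app G).hom.app (op V) g))

theorem sectSupp_pairSect_subset (V : Y.Etale) (s : EtCoh.sect F ((EtCoh.bc f).obj V)) (g : EtCoh.sect G V) :
    EtShriek.sectSupp (tgt f F G) _ (pairSect f F G V s g) ⊆ EtShriek.sectSupp F _ s := by
  intro x hx
  by_contra hn
  obtain ⟨W, a, ha, h0⟩ := (Groth.Agent.EtSect.mem_iff F s x).mp hn
  refine hx W a ha ?_
  refine (NatTrans.naturality_apply (toSheafify X.smallEtaleTopology (tgtPre f F G)) a.op _).symm.trans ?_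
  refine Eq.trans (congrArg _ (EtTens.tensorObj_map_tmul _ _ a.op s _)) ?_
  rw [h0, TensorProduct.zero_tmul]
  exact map_zero _

theorem pairSect_add_right (V : Y.Etale) (s : EtCoh.sect F ((EtCoh.bc f).obj V)) (g g' : EtCoh.sect G V) :
    pairSect f F G V s (g + g') = pairSect f F G V s g + pairSect f F G V s g' := by
  simp only [pairSect, map_add, TensorProduct.tmul_add]

theorem pairSect_add_left (V : Y.Etale) (s s' : EtCoh.sect F ((EtCoh.bc f).obj V)) (g : EtCoh.sect G V) :
    pairSect f F G V (s + s') g = pairSect f F G V s g + pairSect f F G V s' g := by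
  simp only [pairSect, TensorProduct.add_tmul]
  exact map_add _ _ _

variable [LocallyOfFiniteType f]

theorem pairSect_mem (V : Y.Etale) (s : EtShriek.shriekSubgroup f F V) (g : EtCoh.sect G V) :
    pairSect f F G V s.1 g ∈ EtShriek.shriekSubgroup f (tgt f F G) V :=
  (mem_shriekSubgroup_iff _ f V _).mpr (ClSubLib.mono ((mem_shriekSubgroup_iff F f V s.1).mp s.2)
    (Groth.Agent.EtSect.isClosed_sectSupp _ _) (sectSupp_pairSect_subset f F G V s.1 g))

/-- the pairing on presheaves -/
noncomputable def muPre : EtTens.tensorObj (EtShriek.lowerShriekPre f F) G.obj ⟶ EtShriek.lowerShriekPre f (tgt f F G) where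
  app V := AddCommGrpCat.ofHom (TensorProduct.liftAddHom
    (AddMonoidHom.mk' (fun s : EtShriek.shriekSubgroup f F V.unop =>
      AddMonoidHom.mk' (fun g : EtCoh.sect G V.unop =>
        (⟨pairSect f F G V.unop s.1 g, pairSect_mem f F G V.unop s g⟩ : EtShriek.shriekSubgroup f (tgt f F G) V.unop))
        (fun g g' => Subtype.ext (pairSect_add_right f F G V.unop s.1 g g')))
      (fun s s' => AddMonoidHom.ext fun g => Subtype.ext (pairSect_add_left f F G V.unop s.1 s'.1 g)))
    (fun r s g => by rw [map_zsmul, map_zsmul]; rfl))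
  naturality {V V'} i := EtTens.hom_ext_tmul fun s g => Subtype.ext (by
    change pairSect f F G V'.unop (F.obj.map ((EtCoh.bc f).map i.unop).op s.1) (G.obj.map i g) =
      (tgt f F G).obj.map ((EtCoh.bc f).map i.unop).op (pairSect f F G V.unop s.1 g)
    refine Eq.trans ?_ (NatTrans.naturality_apply (toSheafify X.smallEtaleTopology (tgtPre f F G))
      ((EtCoh.bc f).map i.unop).op _)
    refine congrArg _ (Eq.trans ?_ (EtTens.tensorObj_map_tmul _ _ _ s.1 _).symm)
    exact congrArg (_ ⊗ₜ[ℤ] ·) (NatTrans.naturality_apply ((EtCoh.pullPushAdj f).unit.app G).hom i g))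

theorem muPre_tmul (V : Y.Etale) (s : EtShriek.shriekSubgroup f F V) (g : EtCoh.sect G V) :
    ((muPre f F G).app (op V) (s ⊗ₜ g) : EtShriek.shriekSubgroup f (tgt f F G) V).1 = pairSect f F G V s.1 g := rfl

variable [IsSeparated f] [LocallyQuasiFinite f] {Ω : Type u} [Field Ω] [IsAlgClosed Ω]
  (η : Spec (CommRingCat.of Ω) ⟶ Y)

/-- component of the fibre of the presheaf of sections with proper support -/
noncomputable def cMap (ξ : Lifts f η) : fib η (EtShriek.lowerShriekPre f F) →+ fib ξ.1 F.obj :=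
  ((Scheme.pointSmallEtale η).presheafFiber.map (toSheafify Y.smallEtaleTopology (EtShriek.lowerShriekPre f F)) ≫
    comp f η F ξ).hom

/-- tensored component -/
noncomputable def cTMap (ξ : Lifts f η) :
    (fib η (EtShriek.lowerShriekPre f F) ⊗[ℤ] fib η G.obj) →+ (fib ξ.1 F.obj ⊗[ℤ] fib η G.obj) :=
  (TensorProduct.map (cMap f F η ξ).toIntLinearMap LinearMap.id).toAddMonoidHom

/-- the fibre of the pairing -/
noncomputable abbrev mFib : fib η (EtTens.tensorObj (EtShriek.lowerShriekPre f F) G.obj) ⟶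
    (EtCoh.stalk η).obj ((EtShriek.lowerShriek f).obj (tgt f F G)) :=
  (Scheme.pointSmallEtale η).presheafFiber.map
    (muPre f F G ≫ toSheafify Y.smallEtaleTopology (EtShriek.lowerShriekPre f (tgt f F G)))

theorem exists_component (ξ : Lifts f η) :
    ∃ L : (fib ξ.1 F.obj ⊗[ℤ] fib η G.obj) →+ (EtCoh.stalk ξ.1).obj (tgt f F G),
      Function.Bijective L ∧ ∀ z, comp f η (tgt f F G) ξ (mFib f F G η z) =
        L (cTMap f F G η ξ (delta η (EtShriek.lowerShriekPre f F) G.obj z)) := by
  let A := EtShriek.lowerShriekPre f F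
  let M := mFib f F G η
  let cT := cTMap f F G η
  obtain ⟨γ, hγ, hγg⟩ := exists_pullGerm ξ.1 f η ξ.2 G
  let γe := AddEquiv.ofBijective γ.hom hγ
  let δe := AddEquiv.ofBijective (delta ξ.1 F.obj ((EtCoh.pull f).obj G).obj).hom
    (bijective_delta ξ.1 F.obj ((EtCoh.pull f).obj G).obj)
  let σ := (Scheme.pointSmallEtale ξ.1).presheafFiber.map (toSheafify X.smallEtaleTopology (tgtPre f F G))
  let m := (TensorProduct.congr (LinearEquiv.refl ℤ (fib ξ.1 F.obj)) γe.toIntLinearEquiv).toAddEquiv
  refine ⟨σ.hom.comp (δe.symm.toAddMonoidHom.comp m.toAddMonoidHom),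
    ((ConcreteCategory.isIso_iff_bijective σ).mp inferInstance).comp (δe.symm.bijective.comp m.bijective), fun z => ?_⟩
  obtain ⟨V, v, n, rfl⟩ := (Scheme.pointSmallEtale η).toPresheafFiber_jointly_surjective
    (P := EtTens.tensorObj A G.obj) z
  induction n using TensorProduct.induction_on with
  | zero => simp
  | add a b ha hb => simp only [map_add, ha, hb]
  | tmul s g =>
    let v' : Over.mk η ⟶ (Scheme.Etale.forget Y).obj V := v
    have hM : M (gm η (EtTens.tensorObj A G.obj) V v (s ⊗ₜ g)) =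
        germ f η (tgt f F G) V v' ⟨pairSect f F G V s.1 g, pairSect_mem f F G V s g⟩ := by
      refine (GrothendieckTopology.Point.toPresheafFiber_naturality_apply _ _ _ _ _).trans ?_
      exact (GrothendieckTopology.Point.toPresheafFiber_naturality_apply (Scheme.pointSmallEtale η)
        (toSheafify Y.smallEtaleTopology (EtShriek.lowerShriekPre f (tgt f F G))) V v _).symm
    have hR : cT ξ (delta η A G.obj (gm η (EtTens.tensorObj A G.obj) V v (s ⊗ₜ g))) =
        gm ξ.1 F.obj ((EtCoh.bc f).obj V) (upPt f η v' ξ) s.1 ⊗ₜ[ℤ] gm η G.obj V v g := by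
      rw [delta_gm]
      exact congrArg (· ⊗ₜ[ℤ] _) (comp_germ f η F V v' s ξ)
    show comp f η (tgt f F G) ξ (M (gm η (EtTens.tensorObj A G.obj) V v (s ⊗ₜ g))) = _
    refine Eq.trans (congrArg (comp f η (tgt f F G) ξ) hM) ?_
    rw [comp_germ]
    refine Eq.symm (Eq.trans (congrArg _ hR) ?_)
    show σ (δe.symm (gm ξ.1 F.obj _ (upPt f η v' ξ) s.1 ⊗ₜ[ℤ] γ (gm η G.obj V v g))) = _
    have hs : δe (gm ξ.1 (tgtPre f F G) ((EtCoh.bc f).obj V) (upPt f η v' ξ)
        (s.1 ⊗ₜ (((EtCoh.pullPushAdj f).unit.app G).hom.app (op V) g))) =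
        gm ξ.1 F.obj _ (upPt f η v' ξ) s.1 ⊗ₜ[ℤ] γ (gm η G.obj V v g) := by
      rw [hγg V v' g]
      exact delta_gm _ _ _ _ _ _ _
    rw [← hs, AddEquiv.symm_apply_apply]
    exact GrothendieckTopology.Point.toPresheafFiber_naturality_apply _ _ _ _ _

set_option maxHeartbeats 1000000 in
theorem bijective_fibre :
    Function.Bijective ((Scheme.pointSmallEtale η).presheafFiber.map
      (muPre f F G ≫ toSheafify Y.smallEtaleTopology (EtShriek.lowerShriekPre f (tgt f F G)))) := by
  classical
  let A := EtShriek.lowerShriekPre f F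
  let M := (Scheme.pointSmallEtale η).presheafFiber.map
    (muPre f F G ≫ toSheafify Y.smallEtaleTopology (EtShriek.lowerShriekPre f (tgt f F G)))
  -- components of the fibre of `f_!F`
  let ι := (Scheme.pointSmallEtale η).presheafFiber.map (toSheafify Y.smallEtaleTopology A)
  have hι : Function.Bijective ι := (ConcreteCategory.isIso_iff_bijective _).mp inferInstance
  let c : ∀ ξ : Lifts f η, fib η A →+ fib ξ.1 F.obj := cMap f F η
  obtain ⟨d, hd, hdc⟩ := bijective_components f η F
  let ιe := AddEquiv.ofBijective ι.hom hι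
  let inc : ∀ ξ : Lifts f η, fib ξ.1 F.obj →+ fib η A := fun ξ =>
    ιe.symm.toAddMonoidHom.comp (d.comp (DirectSum.of (fun k : Lifts f η => (fib k.1 F.obj : Type (u + 1))) ξ))
  have hc : ∀ k ξ (a : fib ξ.1 F.obj), c k (inc ξ a) = DirectSum.of (fun k : Lifts f η => (fib k.1 F.obj : Type (u + 1))) ξ a k := by
    intro k ξ a
    show comp f η F k (ι (ιe.symm (d _))) = _
    rw [show ι (ιe.symm (d _)) = ιe (ιe.symm (d _)) from rfl, AddEquiv.apply_symm_apply]
    exact hdc _ _
  have hfin : ∀ x, {ξ : Lifts f η | c ξ x ≠ 0}.Finite := fun x => finite_support f η F (ι x)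
  have hdec : ∀ x (S : Finset (Lifts f η)), (∀ ξ, c ξ x ≠ 0 → ξ ∈ S) → x = S.sum fun ξ => inc ξ (c ξ x) := by
    intro x S hS
    apply hι.1
    rw [← sub_eq_zero]
    refine eq_zero_of_comp f η F _ fun k => ?_
    rw [map_sub, sub_eq_zero]
    show c k x = c k (S.sum fun ξ => inc ξ (c ξ x))
    rw [map_sum, Finset.sum_eq_single k (fun ξ _ hne => by rw [hc, DirectSum.of_eq_of_ne _ _ _ (Ne.symm hne)])
      (fun hk => by
        rw [hc, DirectSum.of_eq_same]
        by_contra hne
        exact hk (hS k hne)), hc, DirectSum.of_eq_same]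
  let cT : ∀ ξ : Lifts f η, (fib η A ⊗[ℤ] fib η G.obj) →+ (fib ξ.1 F.obj ⊗[ℤ] fib η G.obj) := cTMap f F G η
  let iT : ∀ ξ : Lifts f η, (fib ξ.1 F.obj ⊗[ℤ] fib η G.obj) →+ (fib η A ⊗[ℤ] fib η G.obj) := fun ξ =>
    (TensorProduct.map (inc ξ).toIntLinearMap LinearMap.id).toAddMonoidHom
  have hcT : ∀ k ξ w, cT k (iT ξ w) = if h : ξ = k then h ▸ w else 0 := by
    intro k ξ w
    split
    next h =>
      subst h
      induction w using TensorProduct.induction_on with
      | zero => simp
      | add a b ha hb => rw [map_add, map_add, ha, hb]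
      | tmul a b =>
        show c ξ (inc ξ a) ⊗ₜ[ℤ] b = a ⊗ₜ b
        rw [hc, DirectSum.of_eq_same]
    next h =>
      induction w using TensorProduct.induction_on with
      | zero => simp
      | add a b ha hb => rw [map_add, map_add, ha, hb, add_zero]
      | tmul a b =>
        show c k (inc ξ a) ⊗ₜ[ℤ] b = 0
        rw [hc, DirectSum.of_eq_of_ne _ _ _ (Ne.symm h), TensorProduct.zero_tmul]
  have hdecT : ∀ w, ∃ S₀ : Finset (Lifts f η), ∀ S, S₀ ⊆ S → w = S.sum fun ξ => iT ξ (cT ξ w) := by
    intro w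
    induction w using TensorProduct.induction_on with
    | zero => exact ⟨∅, fun S _ => by simp⟩
    | add a b ha hb =>
      obtain ⟨S₁, h₁⟩ := ha
      obtain ⟨S₂, h₂⟩ := hb
      refine ⟨S₁ ∪ S₂, fun S hS => ?_⟩
      simp only [map_add, Finset.sum_add_distrib]
      rw [← h₁ S (Finset.union_subset_left hS), ← h₂ S (Finset.union_subset_right hS)]
    | tmul x y =>
      refine ⟨(hfin x).toFinset, fun S hS => ?_⟩
      show x ⊗ₜ[ℤ] y = S.sum fun ξ => inc ξ (c ξ x) ⊗ₜ[ℤ] y
      rw [← TensorProduct.sum_tmul, ← hdec x S fun ξ hξ => hS ((hfin x).mem_toFinset.mpr hξ)]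
  choose L hLb hLM using exists_component f F G η
  refine ⟨(injective_iff_map_eq_zero _).mpr fun z hz => ?_, fun y => ?_⟩
  · have h0 : ∀ ξ, cT ξ (delta η A G.obj z) = 0 := fun ξ => (hLb ξ).1 (by
      rw [map_zero, ← hLM]
      exact (congrArg (comp f η (tgt f F G) ξ) (show M z = 0 from hz)).trans (map_zero _))
    obtain ⟨S₀, hS₀⟩ := hdecT (delta η A G.obj z)
    apply (bijective_delta η A G.obj).1
    rw [map_zero, hS₀ S₀ subset_rfl]
    simp [h0]
  · choose a ha using fun ξ => (hLb ξ).2 (comp f η (tgt f F G) ξ y)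
    let S := (finite_support f η (tgt f F G) y).toFinset
    choose z hz using fun ξ => (bijective_delta η A G.obj).2 (iT ξ (a ξ))
    refine ⟨S.sum z, ?_⟩
    show M (S.sum z) = y
    rw [← sub_eq_zero]
    refine eq_zero_of_comp f η _ _ fun k => ?_
    rw [map_sub, sub_eq_zero]
    refine (hLM k _).trans ?_
    simp only [map_sum]
    have hterm : ∀ ξ, L k (cTMap f F G η k (delta η (EtShriek.lowerShriekPre f F) G.obj (z ξ))) =
        L k (if h : ξ = k then h ▸ a ξ else 0) := fun ξ =>
      congrArg (L k) ((congrArg (cT k) (hz ξ)).trans (hcT k ξ (a ξ)))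
    by_cases hk : k ∈ S
    · rw [Finset.sum_eq_single k (fun ξ _ hne => by rw [hterm, dif_neg hne, map_zero]) (fun h => absurd hk h),
        hterm, dif_pos rfl]
      exact ha k
    · rw [Finset.sum_eq_zero fun ξ hξ => by rw [hterm, dif_neg (fun e : ξ = k => hk (e ▸ hξ)), map_zero]]
      by_contra hne
      exact hk ((finite_support f η _ y).mem_toFinset.mpr (Ne.symm hne))

omit η in
theorem nonempty_iso : Nonempty ((EtTens.tensorBi.obj ((EtShriek.lowerShriek f).obj F)).obj G ≅
    (EtShriek.lowerShriek f).obj (tgt f F G)) := by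
  let A := EtShriek.lowerShriekPre f F
  let SH := presheafToSheaf Y.smallEtaleTopology AddCommGrpCat.{u + 1}
  haveI := isIso_toSheafify Y.smallEtaleTopology (isSheaf_lowerShriekPre f F)
  haveI : IsIso (EtTens.tensorHom (toSheafify Y.smallEtaleTopology A) (𝟙 G.obj)) :=
    ⟨EtTens.tensorHom (inv (toSheafify Y.smallEtaleTopology A)) (𝟙 G.obj),
      by rw [← EtTens.tensorHom_comp, IsIso.hom_inv_id, Category.comp_id, EtTens.tensorHom_id],
      by rw [← EtTens.tensorHom_comp, IsIso.inv_hom_id, Category.comp_id, EtTens.tensorHom_id]⟩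
  let φ : SH.obj (EtTens.tensorObj A G.obj) ⟶ (EtShriek.lowerShriek f).obj (tgt f F G) := SH.map (muPre f F G)
  haveI : IsIso φ := by
    refine Groth.Agent.ShriekLQF.isIso_of_algClosed φ fun K _ _ κ => ?_
    rw [ConcreteCategory.isIso_iff_bijective]
    have hb := bijective_fibre f F G κ
    have e : muPre f F G ≫ toSheafify Y.smallEtaleTopology (EtShriek.lowerShriekPre f (tgt f F G)) =
        toSheafify Y.smallEtaleTopology (EtTens.tensorObj A G.obj) ≫ φ.hom := toSheafify_naturality _ (muPre f F G)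
    rw [e, Functor.map_comp, ConcreteCategory.coe_comp] at hb
    exact (Function.Bijective.of_comp_iff _ ((ConcreteCategory.isIso_iff_bijective
      ((Scheme.pointSmallEtale κ).presheafFiber.map (toSheafify Y.smallEtaleTopology
        (EtTens.tensorObj A G.obj)))).mp inferInstance)).mp hb
  exact ⟨(SH.mapIso (asIso (EtTens.tensorHom (toSheafify Y.smallEtaleTopology A) (𝟙 G.obj)))).symm ≪≫ asIso φ⟩

end Groth.Agent.ShriekProj
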